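import Mathlib.Algebra.Homology.ShortComplex.HomologicalComplex
import Mathlib.Algebra.Homology.HomologicalComplexAbelian
import Mathlib.CategoryTheory.Abelian.Basic
import Mathlib.CategoryTheory.Abelian.Refinements
import Mathlib.CategoryTheory.Preadditive.Injective.Basic
import Mathlib.Algebra.Homology.ShortComplex.Exact

set_option autoImplicit false
universe u v

open CategoryTheory CategoryTheory.Limits

namespace Lift49

variable {V : Type u} [Category.{v} V] [Abelian V]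

/-- Extension into an injective along an arbitrary morphism, when the kernel is killed. -/
lemma exists_desc {X Y I : V} [Injective I] (p : X ⟶ Y) (φ : X ⟶ I)
    (h : ∀ ⦃K : V⦄ (k : K ⟶ X), k ≫ p = 0 → ∃ (K' : V) (π : K' ⟶ K) (_ : Epi π), π ≫ k ≫ φ = 0) :
    ∃ ψ : Y ⟶ I, p ≫ ψ = φ := by
  obtain ⟨K', π, hπ, h'⟩ := h (kernel.ι p) (kernel.condition p)
  have hk : kernel.ι p ≫ φ = 0 := by
    rwa [← cancel_epi π, comp_zero]
  let S := ShortComplex.mk (kernel.ι p) p (kernel.condition p)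
  have hS : S.Exact := S.exact_of_f_is_kernel (kernelIsKernel p)
  exact ⟨hS.descToInjective φ hk, hS.comp_descToInjective φ hk⟩

variable {A C I : CochainComplex V ℕ}

/-- The hypothesis on the pair `(j, a)` that replaces injectivity of `j`. -/
def Good (j : A ⟶ C) (a : A ⟶ I) : Prop :=
  ∀ (n : ℕ) ⦃K : V⦄ (k : K ⟶ A.X n), k ≫ A.d n (n + 1) ≫ j.f (n + 1) = 0 →
    ∃ (K' : V) (π : K' ⟶ K) (_ : Epi π) (k' : K' ⟶ A.X n),
      k' ≫ A.d n (n + 1) = 0 ∧ k' ≫ j.f n = π ≫ k ≫ j.f n ∧ k' ≫ a.f n = π ≫ k ≫ a.f n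

lemma exists_zero (j : A ⟶ C) (a : A ⟶ I) (hgood : Good j a)
    (injI : ∀ n, Injective (I.X n))
    (g : C.homology 0 ⟶ I.homology 0)
    (hg : HomologicalComplex.homologyMap j 0 ≫ g = HomologicalComplex.homologyMap a 0) :
    ∃ f0 : C.X 0 ⟶ I.X 0, j.f 0 ≫ f0 = a.f 0 ∧
      C.iCycles 0 ≫ f0 = C.homologyπ 0 ≫ g ≫ (I.isoHomologyπ₀).inv ≫ I.iCycles 0 := by
  haveI := injI 0
  obtain ⟨f0, hf0⟩ := exists_desc (biprod.desc (j.f 0) (C.iCycles 0))
    (biprod.desc (a.f 0) (C.homologyπ 0 ≫ g ≫ (I.isoHomologyπ₀).inv ≫ I.iCycles 0)) (by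
    intro K k hk
    rw [biprod.desc_eq, Preadditive.comp_add, ← Category.assoc, ← Category.assoc] at hk
    have h1 : (k ≫ biprod.fst) ≫ A.d 0 1 ≫ j.f 1 = 0 := by
      have h2 := congrArg (fun t => t ≫ C.d 0 1) hk
      simp only [Preadditive.add_comp, zero_comp, Category.assoc] at h2
      rw [C.iCycles_d 0 1, comp_zero, comp_zero, add_zero, j.comm 0 1] at h2
      simpa only [Category.assoc] using h2
    obtain ⟨K', π, hπ, k', hk'1, hk'2, hk'3⟩ := hgood 0 (k ≫ biprod.fst) h1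
    refine ⟨K', π, hπ, ?_⟩
    obtain ⟨c, hc⟩ : ∃ c : K' ⟶ A.cycles 0, c ≫ A.iCycles 0 = k' :=
      ⟨A.liftCycles k' 1 (by simp) hk'1, A.liftCycles_i k' 1 (by simp) hk'1⟩
    have h3 : c ≫ HomologicalComplex.cyclesMap j 0 = -(π ≫ (k ≫ biprod.snd)) := by
      rw [← cancel_mono (C.iCycles 0), Category.assoc, HomologicalComplex.cyclesMap_i,
        ← Category.assoc, hc, hk'2, Preadditive.neg_comp]
      simp only [Category.assoc] at hk ⊢
      rw [← add_eq_zero_iff_eq_neg, ← Preadditive.comp_add, hk, comp_zero]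
    rw [biprod.desc_eq, Preadditive.comp_add, Preadditive.comp_add, ← Category.assoc k,
      ← Category.assoc k biprod.snd, ← hk'3, ← Category.assoc π, ← hc, Category.assoc,
      ← neg_eq_iff_eq_neg.mpr h3, ← HomologicalComplex.cyclesMap_i,
      Preadditive.neg_comp, ← sub_eq_add_neg, sub_eq_zero, Category.assoc]
    congr 1
    rw [← HomologicalComplex.homologyπ_naturality_assoc, reassoc_of% hg,
      HomologicalComplex.homologyπ_naturality_assoc,
      show I.homologyπ 0 = I.isoHomologyπ₀.hom from rfl, Iso.hom_inv_id_assoc])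

  refine ⟨f0, ?_, ?_⟩
  · simpa using congrArg (fun t => biprod.inl ≫ t) hf0
  · simpa using congrArg (fun t => biprod.inr ≫ t) hf0

lemma exists_succ (j : A ⟶ C) (a : A ⟶ I) (hgood : Good j a)
    (injI : ∀ n, Injective (I.X n)) (n : ℕ) (hA : A.ExactAt (n + 1))
    (f : C.X n ⟶ I.X n) (hf : j.f n ≫ f = a.f n)
    (hc : C.iCycles n ≫ f ≫ I.d n (n + 1) = 0) :
    ∃ f' : C.X (n + 1) ⟶ I.X (n + 1), j.f (n + 1) ≫ f' = a.f (n + 1) ∧
      C.d n (n + 1) ≫ f' = f ≫ I.d n (n + 1) := by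
  haveI := injI (n + 1)
  have hA' := (A.exactAt_iff' n (n + 1) (n + 2) (by simp) (by simp)).1 hA
  obtain ⟨f', hf'⟩ := exists_desc (biprod.desc (j.f (n + 1)) (C.d n (n + 1)))
    (biprod.desc (a.f (n + 1)) (f ≫ I.d n (n + 1))) (by
    intro K k hk
    rw [biprod.desc_eq, Preadditive.comp_add, ← Category.assoc, ← Category.assoc] at hk
    have h1 : (k ≫ biprod.fst) ≫ A.d (n + 1) (n + 2) ≫ j.f (n + 2) = 0 := by
      have h2 := congrArg (fun t => t ≫ C.d (n + 1) (n + 2)) hk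
      simp only [Preadditive.add_comp, zero_comp, Category.assoc, C.d_comp_d,
        comp_zero, add_zero, j.comm (n + 1) (n + 2)] at h2
      simpa only [Category.assoc] using h2
    obtain ⟨K', π, hπ, k', hk'1, hk'2, hk'3⟩ := hgood (n + 1) (k ≫ biprod.fst) h1
    obtain ⟨K'', π', hπ', z, hz⟩ : ∃ (K'' : V) (π' : K'' ⟶ K') (_ : Epi π')
        (z : K'' ⟶ A.X n), π' ≫ k' = z ≫ A.d n (n + 1) :=
      hA'.exact_up_to_refinements k' hk'1
    refine ⟨K'', π' ≫ π, inferInstance, ?_⟩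
    have hw : (z ≫ j.f n + π' ≫ π ≫ k ≫ biprod.snd) ≫ C.d n (n + 1) = 0 := by
      have h4 : π' ≫ k' ≫ j.f (n + 1) = z ≫ A.d n (n + 1) ≫ j.f (n + 1) := by
        rw [← Category.assoc, hz, Category.assoc]
      rw [Preadditive.add_comp, Category.assoc z, j.comm n (n + 1), ← h4, hk'2]
      simp only [Category.assoc] at hk ⊢
      rw [← Preadditive.comp_add, ← Preadditive.comp_add, hk, comp_zero, comp_zero]
    have hw2 : (z ≫ j.f n + π' ≫ π ≫ k ≫ biprod.snd) ≫ f ≫ I.d n (n + 1) = 0 := by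
      rw [← C.liftCycles_i _ (n + 1) (by simp) hw, Category.assoc, hc, comp_zero]
    have h5 : π' ≫ π ≫ (k ≫ biprod.fst) ≫ a.f (n + 1) = z ≫ j.f n ≫ f ≫ I.d n (n + 1) := by
      rw [← hk'3, ← Category.assoc π', hz, Category.assoc, ← a.comm n (n + 1), reassoc_of% hf]
    rw [biprod.desc_eq, Preadditive.comp_add, Preadditive.comp_add]
    simp only [Category.assoc, Preadditive.add_comp] at hw2 h5 ⊢
    rw [h5]
    exact hw2)
  refine ⟨f', ?_, ?_⟩
  · simpa using congrArg (fun t => biprod.inl ≫ t) hf'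
  · simpa using congrArg (fun t => biprod.inr ≫ t) hf'

lemma exists_extend (j : A ⟶ C) (a : A ⟶ I) (hgood : Good j a)
    (hA : ∀ n, 0 < n → A.ExactAt n) (hC : ∀ n, 0 < n → C.ExactAt n)
    (injI : ∀ n, Injective (I.X n))
    (g : C.homology 0 ⟶ I.homology 0)
    (hg : HomologicalComplex.homologyMap j 0 ≫ g = HomologicalComplex.homologyMap a 0) :
    ∃ f : C ⟶ I, j ≫ f = a ∧ HomologicalComplex.homologyMap f 0 = g := by
  obtain ⟨f0, h0, h0'⟩ := exists_zero j a hgood injI g hg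
  let St : ℕ → Type v := fun n => {f : C.X n ⟶ I.X n //
    j.f n ≫ f = a.f n ∧ C.iCycles n ≫ f ≫ I.d n (n + 1) = 0}
  have e0 : C.iCycles 0 ≫ f0 ≫ I.d 0 1 = 0 := by
    rw [reassoc_of% h0', I.iCycles_d 0 1]
    simp
  have step : ∀ n (s : St n), ∃ t : St (n + 1), C.d n (n + 1) ≫ t.1 = s.1 ≫ I.d n (n + 1) := by
    intro n s
    obtain ⟨f', h1, h2⟩ := exists_succ j a hgood injI n (hA (n + 1) n.succ_pos) s.1 s.2.1 s.2.2
    refine ⟨⟨f', h1, ?_⟩, h2⟩
    have hx := (C.exactAt_iff' n (n + 1) (n + 2) (by simp) (by simp)).1 (hC (n + 1) n.succ_pos)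
    obtain ⟨K', π, hπ, z, hz⟩ : ∃ (K' : V) (π : K' ⟶ C.cycles (n + 1)) (_ : Epi π)
        (z : K' ⟶ C.X n), π ≫ C.iCycles (n + 1) = z ≫ C.d n (n + 1) :=
      hx.exact_up_to_refinements (C.iCycles (n + 1)) (C.iCycles_d (n + 1) (n + 2))
    rw [← cancel_epi π, comp_zero, reassoc_of% hz, reassoc_of% h2, I.d_comp_d]
    simp
  let F : ∀ n, St n := fun n => Nat.rec (⟨f0, h0, e0⟩ : St 0) (fun n s => (step n s).choose) n
  let f : C ⟶ I :=
    { f := fun n => (F n).1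
      comm' := fun i i' (h : i + 1 = i') => by
        subst h
        exact ((step i (F i)).choose_spec).symm }
  refine ⟨f, ?_, ?_⟩
  · ext n
    exact (F n).2.1
  · rw [← cancel_epi (C.homologyπ 0), HomologicalComplex.homologyπ_naturality]
    have hcyc : HomologicalComplex.cyclesMap f 0 = C.homologyπ 0 ≫ g ≫ I.isoHomologyπ₀.inv := by
      rw [← cancel_mono (I.iCycles 0), HomologicalComplex.cyclesMap_i]
      simp only [Category.assoc]
      exact h0'
    rw [hcyc]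
    simp only [Category.assoc]
    rw [show I.homologyπ 0 = I.isoHomologyπ₀.hom from rfl, Iso.inv_hom_id, Category.comp_id]

lemma good_of_mono (j : A ⟶ C) (a : A ⟶ I) (hj : ∀ n, Mono (j.f n)) : Good j a := by
  intro n K k hk
  haveI := hj (n + 1)
  refine ⟨K, 𝟙 K, inferInstance, k, ?_, by simp, by simp⟩
  rw [← cancel_mono (j.f (n + 1)), zero_comp, Category.assoc, hk]

lemma good_of_leftExact {A' : CochainComplex V ℕ} (i : A' ⟶ A) (j : A ⟶ C) (a : A ⟶ I)
    (hi : ∀ n, Mono (i.f n)) (w : ∀ n, i.f n ≫ j.f n = 0)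
    (ex : ∀ n, (ShortComplex.mk (i.f n) (j.f n) (w n)).Exact)
    (hA' : ∀ n, 0 < n → A'.ExactAt n) (ha : i ≫ a = 0) : Good j a := by
  intro n K k hk
  obtain ⟨K', π, hπ, u, hu⟩ : ∃ (K' : V) (π : K' ⟶ K) (_ : Epi π) (u : K' ⟶ A'.X (n + 1)),
      π ≫ k ≫ A.d n (n + 1) = u ≫ i.f (n + 1) :=
    (ex (n + 1)).exact_up_to_refinements (k ≫ A.d n (n + 1)) (by simpa using hk)
  have hu' : u ≫ A'.d (n + 1) (n + 2) = 0 := by
    haveI := hi (n + 2)
    rw [← cancel_mono (i.f (n + 2)), zero_comp, Category.assoc, ← i.comm, ← Category.assoc,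
      ← hu]
    simp
  obtain ⟨K'', π', hπ', z, hz⟩ : ∃ (K'' : V) (π' : K'' ⟶ K') (_ : Epi π')
      (z : K'' ⟶ A'.X n), π' ≫ u = z ≫ A'.d n (n + 1) :=
    ((A'.exactAt_iff' n (n + 1) (n + 2) (by simp) (by simp)).1
      (hA' (n + 1) n.succ_pos)).exact_up_to_refinements u hu'
  refine ⟨K'', π' ≫ π, inferInstance, π' ≫ π ≫ k - z ≫ i.f n, ?_, ?_, ?_⟩
  · simp only [Preadditive.sub_comp, Category.assoc, i.comm n (n + 1)]
    rw [hu, ← Category.assoc π', hz, Category.assoc, sub_self]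
  · simp [Preadditive.sub_comp, Category.assoc, w n]
  · have h : i.f n ≫ a.f n = 0 := by
      rw [← HomologicalComplex.comp_f, ha]; rfl
    simp [Preadditive.sub_comp, Category.assoc, h]

theorem exists_ladder (C' C C'' I' I I'' : CochainComplex V ℕ)
    (jC : C' ⟶ C) (πC : C ⟶ C'') (jI : I' ⟶ I) (πI : I ⟶ I'')
    (mC : ∀ n, Mono (jC.f n)) (wC : ∀ n, jC.f n ≫ πC.f n = 0)
    (exC : ∀ n, (ShortComplex.mk (jC.f n) (πC.f n) (wC n)).Exact)
    (wI : ∀ n, jI.f n ≫ πI.f n = 0)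
    (hC' : ∀ n, 0 < n → C'.ExactAt n) (hC : ∀ n, 0 < n → C.ExactAt n)
    (hC'' : ∀ n, 0 < n → C''.ExactAt n)
    (injI' : ∀ n, Injective (I'.X n)) (injI : ∀ n, Injective (I.X n))
    (injI'' : ∀ n, Injective (I''.X n))
    (g' : C'.homology 0 ⟶ I'.homology 0) (g : C.homology 0 ⟶ I.homology 0)
    (g'' : C''.homology 0 ⟶ I''.homology 0)
    (hg1 : HomologicalComplex.homologyMap jC 0 ≫ g = g' ≫ HomologicalComplex.homologyMap jI 0)
    (hg2 : HomologicalComplex.homologyMap πC 0 ≫ g'' = g ≫ HomologicalComplex.homologyMap πI 0) :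
    ∃ (f' : C' ⟶ I') (f : C ⟶ I) (f'' : C'' ⟶ I''),
      jC ≫ f = f' ≫ jI ∧ πC ≫ f'' = f ≫ πI ∧
      HomologicalComplex.homologyMap f' 0 = g' ∧ HomologicalComplex.homologyMap f 0 = g ∧
      HomologicalComplex.homologyMap f'' 0 = g'' := by
  have hgood0 : Good (0 : C' ⟶ C') (0 : C' ⟶ I') :=
    fun n K k _ => ⟨K, 𝟙 K, inferInstance, 0, zero_comp, by simp, by simp⟩
  obtain ⟨f', -, hf'⟩ := exists_extend (0 : C' ⟶ C') (0 : C' ⟶ I') hgood0 hC' hC' injI' g'
    (by simp)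
  obtain ⟨f, hf, hfg⟩ := exists_extend jC (f' ≫ jI) (good_of_mono _ _ mC) hC' hC injI g
    (by rw [HomologicalComplex.homologyMap_comp, hf', hg1])
  have ha : jC ≫ f ≫ πI = 0 := by
    rw [reassoc_of% hf]
    ext n
    simp [wI n]
  obtain ⟨f'', hf'', hfg''⟩ := exists_extend πC (f ≫ πI)
    (good_of_leftExact jC πC (f ≫ πI) mC wC exC hC' ha) hC hC'' injI'' g''
    (by rw [HomologicalComplex.homologyMap_comp, hfg, hg2])
  exact ⟨f', f, f'', hf, hf'', hf', hfg, hfg''⟩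

end Lift49
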